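import Groth.Prelude.Def_W4bk4goldsch45
import Groth.Agent.Lib.Helper16.FunFld

/-! helper17: small facts about places of function fields (FunFld) over algebraically closed
constant fields: residue constants and the joint-evaluation subalgebra of two places. -/

namespace Groth.Agent.Lib.Helper17.FF

open Groth.Agent.Lib.Helper16.FunFldLib

variable {k K : Type*} [Field k] [Field K] [Algebra k K]

/-- Over an algebraically closed constant field every integral element is congruent to a
constant modulo the maximal ideal of the place. -/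
lemma exists_const [IsAlgClosed k] (hK : FunFld.IsFunctionField k K) (P : FunFld.Place k K)
    (z : K) (hz : P.1 z ≤ 1) : ∃ c : k, P.1 (z - algebraMap k K c) < 1 := by
  have h := finiteDimensional_residueField hK P
  let A : Algebra k (IsLocalRing.ResidueField P.O) := inferInstance
  have h2 : @Module.Finite k (IsLocalRing.ResidueField P.O) _ _ A.toModule := h
  have : Algebra.IsIntegral k (IsLocalRing.ResidueField P.O) := Algebra.IsIntegral.of_finite k _
  have hzO : z ∈ P.O := (Valuation.mem_valuationSubring_iff _ _).mpr hz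
  obtain ⟨c, hc⟩ := (IsAlgClosed.algebraMap_bijective_of_isIntegral (k := k)
    (K := IsLocalRing.ResidueField P.O)).2 (IsLocalRing.residue P.O ⟨z, hzO⟩)
  refine ⟨c, ?_⟩
  have h1 : IsLocalRing.residue P.O (⟨z, hzO⟩ - algebraMap k P.O c) = 0 := by
    rw [map_sub, ← hc]
    exact sub_self _
  rw [IsLocalRing.residue_eq_zero_iff] at h1
  exact place_val_lt_one_of_mem_maximalIdeal P _ h1

lemma val_le_one_of_sub_lt (P : FunFld.Place k K) {a : K} {c : k}
    (h : P.1 (a - algebraMap k K c) < 1) : P.1 a ≤ 1 := by
  have : a = (a - algebraMap k K c) + algebraMap k K c := by ring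
  rw [this]
  exact (P.1.map_add _ _).trans (max_le h.le (P.2.1 c))

/-- The elements congruent to one and the same constant modulo the maximal ideals of two places
form a subalgebra. -/
def jointEval (P Q : FunFld.Place k K) : Subalgebra k K where
  carrier := {a | ∃ c : k, P.1 (a - algebraMap k K c) < 1 ∧ Q.1 (a - algebraMap k K c) < 1}
  mul_mem' := by
    rintro a b ⟨ca, haP, haQ⟩ ⟨cb, hbP, hbQ⟩
    refine ⟨ca * cb, ?_, ?_⟩
    · have hb1 := val_le_one_of_sub_lt P hbP
      have : a * b - algebraMap k K (ca * cb) =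
          (a - algebraMap k K ca) * b + algebraMap k K ca * (b - algebraMap k K cb) := by
        rw [map_mul]; ring
      rw [this]
      refine lt_of_le_of_lt (P.1.map_add _ _) (max_lt ?_ ?_)
      · rw [map_mul]; exact lt_of_le_of_lt (mul_le_of_le_one_right' hb1) haP
      · rw [map_mul]; exact lt_of_le_of_lt (mul_le_of_le_one_left' (P.2.1 ca)) hbP
    · have hb1 := val_le_one_of_sub_lt Q hbQ
      have : a * b - algebraMap k K (ca * cb) =
          (a - algebraMap k K ca) * b + algebraMap k K ca * (b - algebraMap k K cb) := by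
        rw [map_mul]; ring
      rw [this]
      refine lt_of_le_of_lt (Q.1.map_add _ _) (max_lt ?_ ?_)
      · rw [map_mul]; exact lt_of_le_of_lt (mul_le_of_le_one_right' hb1) haQ
      · rw [map_mul]; exact lt_of_le_of_lt (mul_le_of_le_one_left' (Q.2.1 ca)) hbQ
  one_mem' := ⟨1, by simp, by simp⟩
  add_mem' := by
    rintro a b ⟨ca, haP, haQ⟩ ⟨cb, hbP, hbQ⟩
    refine ⟨ca + cb, ?_, ?_⟩
    · have : a + b - algebraMap k K (ca + cb) =
          (a - algebraMap k K ca) + (b - algebraMap k K cb) := by
        rw [map_add]; ring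
      rw [this]
      exact lt_of_le_of_lt (P.1.map_add _ _) (max_lt haP hbP)
    · have : a + b - algebraMap k K (ca + cb) =
          (a - algebraMap k K ca) + (b - algebraMap k K cb) := by
        rw [map_add]; ring
      rw [this]
      exact lt_of_le_of_lt (Q.1.map_add _ _) (max_lt haQ hbQ)
  zero_mem' := ⟨0, by simp, by simp⟩
  algebraMap_mem' := fun c => ⟨c, by simp, by simp⟩

lemma mem_jointEval {P Q : FunFld.Place k K} {a : K} :
    a ∈ jointEval P Q ↔
      ∃ c : k, P.1 (a - algebraMap k K c) < 1 ∧ Q.1 (a - algebraMap k K c) < 1 := Iff.rfl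

/-- For `a` in the joint-evaluation subalgebra, being in the maximal ideal is the same at
both places. -/
lemma jointEval_lt_one_iff {P Q : FunFld.Place k K} {a : K} (ha : a ∈ jointEval P Q) :
    Q.1 a < 1 ↔ P.1 a < 1 := by
  obtain ⟨c, hP, hQ⟩ := ha
  by_cases hc : c = 0
  · subst hc
    simp only [map_zero, sub_zero] at hP hQ
    exact ⟨fun _ => hP, fun _ => hQ⟩
  · have h1 : ∀ R : FunFld.Place k K, R.1 (a - algebraMap k K c) < 1 → R.1 a = 1 := by
      intro R hR
      have hc1 := val_algebraMap_eq_one R.1 R.2.1 hc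
      have : a = (a - algebraMap k K c) + algebraMap k K c := by ring
      rw [this, Valuation.map_add_eq_of_lt_right _ (by rw [hc1]; exact hR), hc1]
    rw [h1 Q hQ, h1 P hP]

lemma jointEval_val_eq_one {P Q : FunFld.Place k K} {a : K} (ha : a ∈ jointEval P Q)
    (h : P.1 a = 1) : Q.1 a = 1 := by
  have hQ1 : Q.1 a ≤ 1 := by
    obtain ⟨c, -, hQ⟩ := ha
    exact val_le_one_of_sub_lt Q hQ
  refine le_antisymm hQ1 ?_
  by_contra hlt
  push Not at hlt
  have := (jointEval_lt_one_iff ha).mp hlt
  rw [h] at this
  exact lt_irrefl _ this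

/-- Inverse of a joint unit stays in the joint-evaluation subalgebra. -/
lemma inv_mem_jointEval {P Q : FunFld.Place k K} {a : K} (ha : a ∈ jointEval P Q)
    (h : P.1 a = 1) : a⁻¹ ∈ jointEval P Q := by
  have hQa := jointEval_val_eq_one ha h
  obtain ⟨c, hP, hQ⟩ := ha
  have hc : c ≠ 0 := by
    rintro rfl
    simp only [map_zero, sub_zero] at hP
    rw [h] at hP
    exact lt_irrefl _ hP
  have ha0 : a ≠ 0 := by
    rintro rfl
    rw [map_zero] at h
    exact zero_ne_one h
  have hc0 : algebraMap k K c ≠ 0 := by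
    rw [Ne, map_eq_zero_iff _ (algebraMap k K).injective]; exact hc
  refine ⟨c⁻¹, ?_, ?_⟩
  · have : a⁻¹ - algebraMap k K c⁻¹ =
        -((a - algebraMap k K c) * a⁻¹ * (algebraMap k K c)⁻¹) := by
      rw [map_inv₀]; field_simp; ring
    rw [this, Valuation.map_neg, map_mul, map_mul, map_inv₀, map_inv₀, h,
      val_algebraMap_eq_one P.1 P.2.1 hc]
    simpa using hP
  · have : a⁻¹ - algebraMap k K c⁻¹ =
        -((a - algebraMap k K c) * a⁻¹ * (algebraMap k K c)⁻¹) := by
      rw [map_inv₀]; field_simp; ring
    rw [this, Valuation.map_neg, map_mul, map_mul, map_inv₀, map_inv₀, hQa,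
      val_algebraMap_eq_one Q.1 Q.2.1 hc]
    simpa using hQ

end Groth.Agent.Lib.Helper17.FF
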