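import Mathlib

/-! helper17: maximal minors of `n × d` matrices over a field. -/

namespace Groth.Agent.Lib.Helper17.Minors

open Matrix

variable {K : Type*} [Field K] {d n : ℕ}

lemma det_submatrix_perm (A : Matrix (Fin n) (Fin d) K) (a : Fin d → Fin n)
    (σ : Equiv.Perm (Fin d)) :
    (A.submatrix (a ∘ σ) id).det = Equiv.Perm.sign σ * (A.submatrix a id).det := by
  have : A.submatrix (a ∘ σ) id = (A.submatrix a id).submatrix σ id := rfl
  rw [this, Matrix.det_permute]

lemma det_submatrix_eq_zero_of_not_injective (A : Matrix (Fin n) (Fin d) K)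
    (a : Fin d → Fin n) (ha : ¬ Function.Injective a) : (A.submatrix a id).det = 0 := by
  simp only [Function.Injective, not_forall] at ha
  obtain ⟨i, j, hij, hne⟩ := ha
  exact Matrix.det_zero_of_row_eq hne (by ext t; simp [hij])

/-- A relation between maximal minors on strictly increasing rows extends to all row tuples. -/
lemma det_eq_of_strictMono (A A' : Matrix (Fin n) (Fin d) K) (c : K)
    (h : ∀ θ : Fin d → Fin n, StrictMono θ →
      (A.submatrix θ id).det = c * (A'.submatrix θ id).det)
    (a : Fin d → Fin n) : (A.submatrix a id).det = c * (A'.submatrix a id).det := by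
  by_cases ha : Function.Injective a
  · have hmono : Monotone (a ∘ Tuple.sort a) := Tuple.monotone_sort a
    have hsm : StrictMono (a ∘ Tuple.sort a) :=
      hmono.strictMono_of_injective (ha.comp (Tuple.sort a).injective)
    have h1 := h _ hsm
    rw [det_submatrix_perm, det_submatrix_perm] at h1
    have hs : ((Equiv.Perm.sign (Tuple.sort a) : ℤ) : K) ≠ 0 := by
      rcases Int.units_eq_one_or (Equiv.Perm.sign (Tuple.sort a)) with h2 | h2 <;> simp [h2]
    refine mul_left_cancel₀ hs ?_
    rw [h1]; ring
  · rw [det_submatrix_eq_zero_of_not_injective A a ha,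
      det_submatrix_eq_zero_of_not_injective A' a ha, mul_zero]

/-- A matrix with linearly independent columns has a nonzero maximal minor. -/
lemma exists_det_submatrix_ne_zero (A : Matrix (Fin n) (Fin d) K)
    (hA : LinearIndependent K Aᵀ) : ∃ θ : Fin d → Fin n, (A.submatrix θ id).det ≠ 0 := by
  have hrank : A.rank = d := by
    rw [Matrix.rank_eq_finrank_span_cols]
    have : A.col = Aᵀ := rfl
    rw [this, finrank_span_eq_card hA, Fintype.card_fin]
  obtain ⟨κ, a, ha, hspan, hli⟩ := exists_linearIndependent' K A.row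
  haveI : Finite κ := Finite.of_injective a ha
  letI : Fintype κ := Fintype.ofFinite κ
  have hcard : Fintype.card κ = d := by
    rw [← finrank_span_eq_card hli, hspan, ← Matrix.rank_eq_finrank_span_row, hrank]
  let e : κ ≃ Fin d := Fintype.equivFinOfCardEq hcard
  refine ⟨a ∘ e.symm, ?_⟩
  have hli' : LinearIndependent K (fun i => (A.submatrix (a ∘ e.symm) id) i) := by
    have : (fun i => (A.submatrix (a ∘ e.symm) id) i) = (A.row ∘ a) ∘ e.symm := rfl
    rw [this]; exact hli.comp _ e.symm.injective
  have hu := Matrix.linearIndependent_rows_iff_isUnit.mp hli'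
  exact ((Matrix.isUnit_iff_isUnit_det _).mp hu).ne_zero

/-- A matrix with linearly independent columns has a nonzero maximal minor on strictly
increasing rows. -/
lemma exists_strictMono_det_submatrix_ne_zero (A : Matrix (Fin n) (Fin d) K)
    (hA : LinearIndependent K Aᵀ) :
    ∃ θ : Fin d → Fin n, StrictMono θ ∧ (A.submatrix θ id).det ≠ 0 := by
  obtain ⟨a, ha⟩ := exists_det_submatrix_ne_zero A hA
  have hinj : Function.Injective a := by
    by_contra hni; exact ha (det_submatrix_eq_zero_of_not_injective A a hni)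
  refine ⟨a ∘ Tuple.sort a,
    (Tuple.monotone_sort a).strictMono_of_injective (hinj.comp (Tuple.sort a).injective), ?_⟩
  rw [det_submatrix_perm]
  refine mul_ne_zero ?_ ha
  rcases Int.units_eq_one_or (Equiv.Perm.sign (Tuple.sort a)) with h2 | h2 <;> simp [h2]

lemma det_one_updateRow (t : Fin d) (v : Fin d → K) :
    ((1 : Matrix (Fin d) (Fin d) K).updateRow t v).det = v t := by
  have hv : v = ∑ k, v k • (1 : Matrix (Fin d) (Fin d) K) k := by
    ext j
    simp [Finset.sum_apply, Matrix.one_apply]
  conv_lhs => rw [hv]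
  rw [Matrix.det_updateRow_sum, Matrix.det_one, smul_eq_mul, mul_one]

lemma span_cols_mul_of_isUnit {m : ℕ} (X : Matrix (Fin n) (Fin m) K) (Y : Matrix (Fin m) (Fin m) K)
    (hY : IsUnit Y.det) :
    Submodule.span K (Set.range (X * Y)ᵀ) = Submodule.span K (Set.range Xᵀ) := by
  have h1 : (X * Y).col = (X * Y)ᵀ := rfl
  have h2 : X.col = Xᵀ := rfl
  rw [← h1, ← h2, ← Matrix.range_mulVecLin, ← Matrix.range_mulVecLin, Matrix.mulVecLin_mul,
    LinearMap.range_comp_of_range_eq_top]
  rw [LinearMap.range_eq_top]
  intro v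
  refine ⟨Y⁻¹ *ᵥ v, ?_⟩
  simp [Matrix.mulVec_mulVec, Matrix.mul_nonsing_inv _ hY]

end Groth.Agent.Lib.Helper17.Minors
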